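import Groth.Prelude.Def_Pi1
import Groth.Agent.CalgA.SerreLocal
import Groth.Agent.Fga.DimCut
import Groth.Agent.Pi1C.LefReduce

/-!
# Depth and dimension on normal varieties of dimension at least two

`depth_add_dim`: for a normal integral scheme `Z` locally of finite type over a field, of dimension at least two,
`depth(O_{Z,x}) + dim cl{x} > 1` at every point.
-/

set_option autoImplicit false
universe u
open CategoryTheory CategoryTheory.Limits AlgebraicGeometry TopologicalSpace Opposite Order

namespace Groth.Agent.Pi1.H419.DepthDim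

theorem one_le_dim_closure {X : Type u} [TopologicalSpace X] [T0Space X] (x y : X) (h : x ⤳ y) (hne : x ≠ y) :
    1 ≤ topologicalKrullDim (closure ({x} : Set X)) := by
  let C := closure ({x} : Set X)
  let x' : C := ⟨x, subset_closure rfl⟩
  let y' : C := ⟨y, specializes_iff_mem_closure.mp h⟩
  have h' : x' ⤳ y' := Topology.IsInducing.subtypeVal.specializes_iff.mp h
  have hne' : ¬ y' ⤳ x' := by
    intro h2
    exact hne (h.antisymm (Topology.IsInducing.subtypeVal.specializes_iff.mpr h2)).eq
  let a : IrreducibleCloseds C := ⟨closure {y'}, isIrreducible_singleton.closure, isClosed_closure⟩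
  let b : IrreducibleCloseds C := ⟨closure {x'}, isIrreducible_singleton.closure, isClosed_closure⟩
  have hab : a < b := by
    refine lt_of_le_not_ge ?_ ?_
    · change closure {y'} ⊆ closure {x'}
      exact closure_minimal (Set.singleton_subset_iff.mpr (specializes_iff_mem_closure.mp h')) isClosed_closure
    · intro hba
      have h3 : closure {x'} ⊆ closure {y'} := hba
      exact hne' (specializes_iff_mem_closure.mpr (h3 (subset_closure rfl)))
  let p : LTSeries (IrreducibleCloseds C) :=
    (RelSeries.singleton _ a).snoc b hab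
  have := Order.LTSeries.length_le_krullDim p
  exact this

theorem not_isField_stalk {X : Scheme.{u}} [IsIntegral X] {x : X} (hx : x ≠ genericPoint X) :
    ¬ IsField (X.presheaf.stalk x) := by
  intro h
  apply hx
  have h1 : genericPoint X ∈ Set.range (X.fromSpecStalk x) := by
    rw [Scheme.range_fromSpecStalk]
    exact genericPoint_specializes x
  obtain ⟨P, hP⟩ := h1
  letI := h.toField
  have h2 : P = IsLocalRing.closedPoint (X.presheaf.stalk x) :=
    (inferInstance : Subsingleton (PrimeSpectrum (X.presheaf.stalk x))).elim _ _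
  rw [← hP, h2, Scheme.fromSpecStalk_closedPoint]

theorem depth_add_dim {k : Type u} [Field k] {Z : Scheme.{u}} (p : Z ⟶ Spec (CommRingCat.of k))
    [LocallyOfFiniteType p] [IsIntegral Z] (hZ : _root_.Pi1.IsNormalScheme Z)
    (hdim : 2 ≤ topologicalKrullDim Z) (x : Z) :
    (1 : WithBot ℕ∞) < (LocCoh.depth (Z.presheaf.stalk x) (Z.presheaf.stalk x) : WithBot ℕ∞) +
        topologicalKrullDim (closure ({x} : Set Z)) := by
  have hN : IsLocallyNoetherian Z := LocallyOfFiniteType.isLocallyNoetherian p
  have h12 : (1 : WithBot ℕ∞) < 2 := by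
    have : ((1 : ℕ∞) : WithBot ℕ∞) < ((2 : ℕ∞) : WithBot ℕ∞) := by
      rw [WithBot.coe_lt_coe]
      norm_num
    exact this
  refine lt_of_lt_of_le h12 ?_
  have hdom := (hZ x).1
  have hic := (hZ x).2
  by_cases hgen : x = genericPoint Z
  · -- the generic point
    have h1 : closure ({x} : Set Z) = Set.univ := by
      rw [hgen]
      exact genericPoint_spec Z
    have h2 : topologicalKrullDim (closure ({x} : Set Z)) = topologicalKrullDim Z := by
      rw [h1]
      exact (Homeomorph.Set.univ Z).isHomeomorph.topologicalKrullDim_eq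
    rw [h2]
    refine hdim.trans ?_
    have h0 : (0 : WithBot ℕ∞) ≤ (LocCoh.depth (Z.presheaf.stalk x) (Z.presheaf.stalk x) : WithBot ℕ∞) :=
      WithBot.coe_nonneg.mpr zero_le
    calc topologicalKrullDim Z = 0 + topologicalKrullDim Z := (zero_add _).symm
      _ ≤ _ := add_le_add_left h0 _
  · by_cases hcl : IsClosed ({x} : Set Z)
    · -- closed points
      letI : Z.Over (Spec (CommRingCat.of k)) := ⟨p⟩
      have hft : LocallyOfFiniteType (Z ↘ Spec (CommRingCat.of k)) := ‹LocallyOfFiniteType p›
      have h1 : ringKrullDim (Z.presheaf.stalk x) = topologicalKrullDim Z :=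
        Fga.DimCut.ringKrullDim_stalk_eq k Z x hcl
      have h2 : ¬ ringKrullDim (Z.presheaf.stalk x) ≤ 1 := by
        rw [h1, not_le]
        exact lt_of_lt_of_le h12 hdim
      have h3 := CalgA.SerreLocal.two_le_depth_of_isIntegrallyClosed h2
      have h4 : (2 : WithBot ℕ∞) ≤ (LocCoh.depth (Z.presheaf.stalk x) (Z.presheaf.stalk x) : WithBot ℕ∞) :=
        WithBot.coe_le_coe.mpr h3
      have h5 := Pi1C.LefReduce.topologicalKrullDim_closure_nonneg x
      calc (2 : WithBot ℕ∞) = 2 + 0 := (add_zero _).symm
        _ ≤ _ := add_le_add h4 h5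
    · -- intermediate points
      obtain ⟨y, hy, hne⟩ : ∃ y, x ⤳ y ∧ x ≠ y := by
        by_contra hcon
        push Not at hcon
        apply hcl
        rw [← closure_subset_iff_isClosed]
        intro y hy
        exact (hcon y (specializes_iff_mem_closure.mpr hy)).symm
      have h1 := one_le_dim_closure x y hy hne
      have hnf : IsLocalRing.maximalIdeal (Z.presheaf.stalk x) ≠ ⊥ := by
        intro hbot
        exact not_isField_stalk hgen (IsLocalRing.isField_iff_maximalIdeal_eq.mpr hbot)
      obtain ⟨a, ha, ha0⟩ := Submodule.exists_mem_ne_zero_of_ne_bot hnf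
      have h2 : 1 ≤ LocCoh.depth (Z.presheaf.stalk x) (Z.presheaf.stalk x) := by
        rw [CalgA.DepthSmall.one_le_depth_iff]
        exact ⟨a, ha, IsSMulRegular.of_ne_zero ha0⟩
      have h4 : (1 : WithBot ℕ∞) ≤ (LocCoh.depth (Z.presheaf.stalk x) (Z.presheaf.stalk x) : WithBot ℕ∞) :=
        WithBot.coe_le_coe.mpr h2
      calc (2 : WithBot ℕ∞) = 1 + 1 := by norm_num
        _ ≤ _ := add_le_add h4 h1

end Groth.Agent.Pi1.H419.DepthDim
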