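import Groth.Agent.Pi1.H419.SteinNormal
import Groth.Agent.Pi1.H419.DepthDim
import Groth.Agent.Pi1C.LefClopenMain
import Groth.Agent.Pi1C.LefFinal
import Groth.Agent.S1297
import Groth.Agent.VarietyA.AmpleField
import Groth.Agent.Ega1.AmpFam
import Groth.Agent.Flat2H.FamOpen
import Groth.Agent.Ega3B.ProjAmple
import Groth.Agent.Dix.ProjProper
import Groth.Agent.Dix.DimClosed

/-!
# Connectedness of hyperplane sections of normal varieties

* `isConnected_compl_genLocus`: on a normal integral proper scheme of dimension at least two over a field the zero locus of a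
  section of an ample module is connected;
* `isConnected_preimage_hyperplane`: for `X` normal, integral, proper over a field `k` and `φ : X ⟶ P^r_k` with image of
  dimension at least two, inverse images of hyperplanes are connected.
-/

set_option autoImplicit false
universe u
open CategoryTheory CategoryTheory.Limits AlgebraicGeometry TopologicalSpace Opposite

namespace Groth.Agent.Pi1.H419.HypConn

theorem isConnected_compl_genLocus {k : Type u} [Field k] {Z : Scheme.{u}} (p : Z ⟶ Spec (CommRingCat.of k))
    [IsProper p] [IsIntegral Z] (hZ : _root_.Pi1.IsNormalScheme Z)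
    (hdim : 2 ≤ topologicalKrullDim Z) {L : Z.Modules} (hL : CohB1.IsAmple L) (s : Coh.structureModule Z ⟶ L) :
    _root_.IsConnected ((CohB1.genLocus L s : Set Z)ᶜ) := by
  obtain ⟨h1, h2⟩ := Pi1C.LefClopenMain.lefClopen k Z p L hL s
    (fun x _ => DepthDim.depth_add_dim p hZ hdim x)
  rw [Pi1C.LefFinal.support_eq hL.1 s] at h1 h2
  have hclosed : IsClosed ((CohB1.genLocus L s : Set Z)ᶜ) := (CohB1.genLocus L s).isOpen.isClosed_compl
  refine ⟨?_, ?_⟩
  · by_contra hne
    rw [Set.not_nonempty_iff_eq_empty] at hne
    have h3 := h1 Set.univ isClopen_univ (by rw [hne]; exact Set.disjoint_empty _)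
    exact (Set.univ_nonempty (α := Z)).ne_empty h3
  · rw [isPreconnected_iff_subset_of_fully_disjoint_closed hclosed]
    intro A B hA hB hAB hd
    obtain ⟨C, hC, hCA⟩ := h2 (A ∩ (CohB1.genLocus L s : Set Z)ᶜ) (B ∩ (CohB1.genLocus L s : Set Z)ᶜ)
      (hA.inter hclosed) (hB.inter hclosed)
      (by rw [← Set.union_inter_distrib_right]; exact Set.inter_eq_right.mpr hAB)
      (hd.mono Set.inter_subset_left Set.inter_subset_left)
    have hpre : PreconnectedSpace Z := inferInstance
    rcases isClopen_iff.mp hC with rfl | rfl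
    · right
      intro x hx
      rcases hAB hx with h | h
      · exfalso
        have : x ∈ (∅ : Set Z) ∩ (CohB1.genLocus L s : Set Z)ᶜ := by rw [hCA]; exact ⟨h, hx⟩
        exact this.1
      · exact h
    · left
      rw [Set.univ_inter] at hCA
      intro x hx
      rw [hCA] at hx
      exact hx.1

/-- The inverse image of a hyperplane in a normal integral scheme proper over a field, mapping to projective space with
image of dimension at least two, is connected. -/
theorem isConnected_preimage_hyperplane (k : Type u) [Field k] {X : Scheme.{u}} [IsIntegral X]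
    (hX : _root_.Pi1.IsNormalScheme X) (r : ℕ) (φ : X ⟶ CohB1.ProjSpace r k)
    (hp : IsProper (φ ≫ CohB1.ProjSpace.toSpec r k))
    (hdim : 2 ≤ topologicalKrullDim ↥(closure (Set.range φ)))
    (ℓ : MvPolynomial (Fin (r + 1)) k) (hℓ : ℓ ∈ CohB1.polyGrading r k 1) :
    _root_.IsConnected ((φ ⁻¹' (Proj.basicOpen (CohB1.polyGrading r k) ℓ).carrier)ᶜ : Set X) := by
  have hφ : IsProper φ := IsProper.of_comp φ (CohB1.ProjSpace.toSpec r k)
  have hNoeth : IsLocallyNoetherian (CohB1.ProjSpace r k) :=
    LocallyOfFiniteType.isLocallyNoetherian (CohB1.ProjSpace.toSpec r k)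
  have hfin : IsFinite φ.fromNormalization := S1297.result φ
  have hcomp : φ.toNormalization ≫ φ.fromNormalization = φ := Scheme.Hom.toNormalization_fromNormalization φ
  have hπ : IsProper φ.toNormalization := by
    have : IsProper (φ.toNormalization ≫ φ.fromNormalization) := by rw [hcomp]; exact hφ
    exact IsProper.of_comp _ φ.fromNormalization
  have hπc : GeometricallyConnected φ.toNormalization := (S0388.result φ).1
  have hpZ : IsProper (φ.fromNormalization ≫ CohB1.ProjSpace.toSpec r k) :=
    MorphismProperty.comp_mem (W := @IsProper) _ _ inferInstance inferInstance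
  have hZ := SteinNormal.isNormalScheme_normalization hX φ
  have hrange : Set.range φ.fromNormalization = closure (Set.range φ) := by
    have h1 : IsClosed (Set.range φ) := φ.isClosedMap.isClosed_range
    rw [h1.closure_eq]
    ext y
    constructor
    · rintro ⟨z, rfl⟩
      obtain ⟨x, rfl⟩ := φ.toNormalization.surjective z
      exact ⟨x, by rw [← Scheme.Hom.comp_apply, hcomp]⟩
    · rintro ⟨x, rfl⟩
      exact ⟨φ.toNormalization x, by rw [← Scheme.Hom.comp_apply, hcomp]⟩
  have hdimZ : 2 ≤ topologicalKrullDim φ.normalization := by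
    refine hdim.trans ?_
    rw [← hrange]
    let f : φ.normalization → Set.range φ.fromNormalization := Set.rangeFactorization φ.fromNormalization
    have hcl : IsClosed (Set.range φ.fromNormalization) := φ.fromNormalization.isClosedMap.isClosed_range
    have hqs : QuasiSober (Set.range φ.fromNormalization) := hcl.isClosedEmbedding_subtypeVal.quasiSober
    refine Dix.DimClosed.topologicalKrullDim_le_of_isClosedMap f ?_ Set.rangeFactorization_surjective
    intro C hC
    rw [hcl.isClosedEmbedding_subtypeVal.isClosed_iff_image_isClosed, ← Set.image_comp]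
    exact φ.fromNormalization.isClosedMap C hC
  have hamp : CohB1.IsAmple ((Scheme.Modules.pullback φ.fromNormalization).obj (Twist.twistProjSpace r k 1)) :=
    Flat2H.FamOpen.isAmple_pullback_of_isAffineHom φ.fromNormalization
      (VarietyA.AmpleField.isAmple_twistProjSpace r k)
  have hinv := Ega2.VeryAmpleAmple.isInvertible_twistProjSpace r k 1
  let s₀ : Coh.structureModule (CohB1.ProjSpace r k) ⟶ Twist.twistProjSpace r k 1 :=
    Ega2.VeryAmpleAmple.globalSec (𝒜 := CohB1.polyGrading r k) ⟨ℓ, hℓ⟩
  have hs₀ : CohB1.genLocus (Twist.twistProjSpace r k 1) s₀ = Proj.basicOpen (CohB1.polyGrading r k) ℓ :=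
    Ega2.VeryAmpleAmple.genLocus_globalSec Ega2.VeryAmpleAmple.coveredByOne_poly _
  have key := isConnected_compl_genLocus (φ.fromNormalization ≫ CohB1.ProjSpace.toSpec r k) hZ hdimZ hamp
    (Fdesc.LocGen.pullHom φ.fromNormalization s₀)
  have h1 : CohB1.genLocus _ (Fdesc.LocGen.pullHom φ.fromNormalization s₀) =
      φ.fromNormalization ⁻¹ᵁ (Proj.basicOpen (CohB1.polyGrading r k) ℓ) := by
    rw [Ega1.AmpFam.genLocus_pullHom φ.fromNormalization hinv s₀, hs₀]
  rw [h1] at key
  have h2 := Topology.IsCoinducing.isConnected_preimage_of_isClosed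
    φ.toNormalization.isConnected_preimage_singleton
    (φ.toNormalization.isClosedMap.isQuotientMap φ.toNormalization.continuous φ.toNormalization.surjective).isCoinducing
    (φ.fromNormalization ⁻¹ᵁ (Proj.basicOpen (CohB1.polyGrading r k) ℓ)).isOpen.isClosed_compl key
  have h3 : ((φ ⁻¹' (Proj.basicOpen (CohB1.polyGrading r k) ℓ).carrier)ᶜ : Set X) =
      φ.toNormalization ⁻¹' ((φ.fromNormalization ⁻¹ᵁ (Proj.basicOpen (CohB1.polyGrading r k) ℓ) :
        Set φ.normalization)ᶜ) := by
    rw [Set.preimage_compl]
    congr 1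
    ext x
    have h4 : φ x = φ.fromNormalization (φ.toNormalization x) := by
      rw [← Scheme.Hom.comp_apply, hcomp]
    change φ x ∈ Proj.basicOpen (CohB1.polyGrading r k) ℓ ↔
      φ.fromNormalization (φ.toNormalization x) ∈ Proj.basicOpen (CohB1.polyGrading r k) ℓ
    rw [h4]
  rw [h3]
  exact h2

end Groth.Agent.Pi1.H419.HypConn
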