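import Groth.Prelude.Def_Pi1
import Groth.Agent.S1340
import Groth.Agent.S0388
import Groth.Agent.Dix.NormalSec
import Groth.Agent.Ega2.Normal

/-!
# The Stein factorization of a proper morphism from a normal integral scheme

* `isNormalScheme_normalization`: the target of the Stein factorization is normal;
* `surjective_toNormalization`, `isConnected_fibre`;
* `isConnected_preimage`: inverse images of connected closed sets under proper morphisms with connected fibres.
-/

set_option autoImplicit false
universe u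
open CategoryTheory CategoryTheory.Limits AlgebraicGeometry TopologicalSpace Opposite

namespace Groth.Agent.Pi1.H419.SteinNormal

/-- The relative normalization of `S` in a normal integral scheme `X` universally closed and quasi-separated over `S` is
a normal scheme. -/
theorem isNormalScheme_normalization {X S : Scheme.{u}} [IsIntegral X] (hX : _root_.Pi1.IsNormalScheme X)
    (f : X ⟶ S) [UniversallyClosed f] [QuasiSeparated f] : _root_.Pi1.IsNormalScheme f.normalization := by
  intro x
  obtain ⟨_, ⟨U, hU, rfl⟩, hxU, -⟩ :=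
    S.isBasis_affineOpens.exists_subset_of_mem_open (Set.mem_univ (f.fromNormalization x)) isOpen_univ
  have hx : x ∈ f.fromNormalization ⁻¹ᵁ U := hxU
  have hW : IsAffineOpen (f.fromNormalization ⁻¹ᵁ U) := hU.preimage _
  have hne : Nonempty (f.toNormalization ⁻¹ᵁ (f.fromNormalization ⁻¹ᵁ U) : X.Opens) := by
    obtain ⟨z, hz⟩ := f.toNormalization.denseRange.exists_mem_open
      (f.fromNormalization ⁻¹ᵁ U).isOpen ⟨x, hx⟩
    exact ⟨⟨z, hz⟩⟩
  have hiso : IsIso (f.toNormalization.app (f.fromNormalization ⁻¹ᵁ U)) := S1340.result f _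
  let e : Γ(f.normalization, f.fromNormalization ⁻¹ᵁ U) ≃+*
      Γ(X, f.toNormalization ⁻¹ᵁ (f.fromNormalization ⁻¹ᵁ U)) :=
    (asIso (f.toNormalization.app (f.fromNormalization ⁻¹ᵁ U))).commRingCatIsoToRingEquiv
  have hd : IsDomain Γ(X, f.toNormalization ⁻¹ᵁ (f.fromNormalization ⁻¹ᵁ U)) := inferInstance
  have hic : IsIntegrallyClosed Γ(X, f.toNormalization ⁻¹ᵁ (f.fromNormalization ⁻¹ᵁ U)) :=
    Groth.Agent.Dix.NormalSec.isIntegrallyClosed _ (fun x _ => (hX x).2)
  have hd' : IsDomain Γ(f.normalization, f.fromNormalization ⁻¹ᵁ U) := e.toMulEquiv.isDomain _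
  have hic' : IsIntegrallyClosed Γ(f.normalization, f.fromNormalization ⁻¹ᵁ U) := IsIntegrallyClosed.of_equiv e.symm
  let _ : Algebra Γ(f.normalization, f.fromNormalization ⁻¹ᵁ U) (f.normalization.presheaf.stalk x) :=
    TopCat.Presheaf.algebra_section_stalk f.normalization.presheaf ⟨x, hx⟩
  have hloc : IsLocalization.AtPrime (f.normalization.presheaf.stalk x)
    (hW.primeIdealOf ⟨x, hx⟩).asIdeal := hW.isLocalization_stalk ⟨x, hx⟩
  have hdx : IsDomain (f.normalization.presheaf.stalk x) :=
    IsLocalization.isDomain_of_le_nonZeroDivisors (f.normalization.presheaf.stalk x)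
      (Ideal.primeCompl_le_nonZeroDivisors (hW.primeIdealOf ⟨x, hx⟩).asIdeal)
  exact ⟨hdx, isIntegrallyClosed_of_isLocalization (f.normalization.presheaf.stalk x)
    (hW.primeIdealOf ⟨x, hx⟩).asIdeal.primeCompl
    (Ideal.primeCompl_le_nonZeroDivisors (hW.primeIdealOf ⟨x, hx⟩).asIdeal)⟩

end Groth.Agent.Pi1.H419.SteinNormal
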